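import Cfsg.Agent.ClassicalGeometry.OrthDickson
set_option linter.all false

/-!
# Unipotent isometries in characteristic two with a prescribed support

`Q` a quadratic form over a field of characteristic two with non-degenerate polar form, `U` a
non-degenerate subspace. For `dim U ≥ 1, 3, 5` there is an isometry of order `2, 4, 8` which is trivial
on `Uᗮ`, and for `dim U ≥ 3`, `5` there is one in the kernel of the Dickson invariant with
`w ^ 2 = 1`, `1 + w ≠ 0` (`w ^ 4 = 1`, `1 + w + w² + w³ ≠ 0` on `U`).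
-/

set_option autoImplicit false
set_option linter.unusedSectionVars false

namespace Cfsg.Agent.H404.Siegel

open Cfsg QuadraticMap LinearMap
open Cfsg.Agent.ClassicalGeometry.OrthCharTwo Cfsg.Agent.ClassicalGeometry.OrthDickson
open Cfsg.Agent.ClassicalGeometry.Reflection

variable {F : Type*} [Field F] {ι : Type} [Fintype ι] [DecidableEq ι]
variable {Q : QuadraticForm F (ι → F)}

/-- `E` is the Siegel transformation with vectors `e` (singular) and `p` (perpendicular to `e`). -/
def IsE (e p : ι → F) (E : Cfsg.isometryGroup F (⇑Q)) : Prop :=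
  ∀ z, act E z = z + polar Q e z • p - polar Q p z • e - (Q p * polar Q e z) • e

theorem exists_E (e p : ι → F) (he : Q e = 0) (hep : polar Q e p = 0) :
    ∃ E : Cfsg.isometryGroup F (⇑Q), IsE e p E := by
  by_cases hp : Q p = 0
  · refine ⟨siegelIso Q e p 1 he hp hep, fun z => ?_⟩
    rw [act_siegel, hp, one_smul, zero_mul, zero_smul, sub_zero, add_sub_assoc]
  · have hw : Q (p + Q p • e) ≠ 0 := by
      rw [map_add', QuadraticMap.map_smul, he, polar_smul_right, polar_comm (⇑Q) p e, hep]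
      simpa using hp
    exact ⟨_, act_refl_refl Q e p he hep hp hw⟩

theorem isE_unique {e p : ι → F} {E E' : Cfsg.isometryGroup F (⇑Q)} (h : IsE e p E)
    (h' : IsE e p E') : E = E' :=
  act_ext fun z => by rw [h z, h' z]

theorem isE_zero_iff {e : ι → F} {E : Cfsg.isometryGroup F (⇑Q)} (h : IsE e 0 E) : E = 1 :=
  act_ext fun z => by
    rw [h z, act_one]
    simp

theorem isE_mul {e p q : ι → F} (he : Q e = 0) (hp : polar Q e p = 0) (hq : polar Q e q = 0)
    {E E' : Cfsg.isometryGroup F (⇑Q)} (h : IsE e p E) (h' : IsE e q E') : IsE e (p + q) (E * E') := by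
  intro z
  have hee : polar Q e e = 0 := by rw [polar_self, he]; simp
  have h1 : act E e = e := by
    rw [h e, hee, polar_comm (⇑Q) p e, hp]; simp
  have h2 : act E q = q - polar Q p q • e := by
    rw [h q, hq]; simp
  rw [act_mul, h' z, act_sub, act_sub, act_add, act_smul, act_smul, act_smul, h1, h2, h z,
    map_add' Q p q, polar_add_left]
  module

theorem isE_conj {e p : ι → F} {E : Cfsg.isometryGroup F (⇑Q)} (h : IsE e p E)
    (g : Cfsg.isometryGroup F (⇑Q)) : IsE (act g e) (act g p) (g * E * g⁻¹) := by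
  intro z
  have h0 : Q (act g p) = Q p := Q_act (Q := ⇑Q) g p
  rw [act_mul, act_mul, h, act_sub, act_sub, act_add, act_smul, act_smul, act_smul, act_act_inv,
    h0]
  have h1 : ∀ y, polar Q (act g y) z = polar Q y (act g⁻¹ z) := by
    intro y
    rw [← polar_act g y (act g⁻¹ z), act_act_inv]
  rw [h1, h1]

/-- an isometry moves vectors only in the direction of `U` -/
def Supp (U : Submodule F (ι → F)) (g : Cfsg.isometryGroup F (⇑Q)) : Prop :=
  ∀ z, act g z - z ∈ U

theorem supp_one (U : Submodule F (ι → F)) : Supp U (1 : Cfsg.isometryGroup F (⇑Q)) := fun z => by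
  rw [act_one, sub_self]; exact U.zero_mem

theorem supp_mul {U : Submodule F (ι → F)} {g h : Cfsg.isometryGroup F (⇑Q)} (hg : Supp U g)
    (hh : Supp U h) : Supp U (g * h) := fun z => by
  rw [act_mul, ← sub_add_sub_cancel _ (act h z)]
  exact U.add_mem (hg _) (hh _)

theorem supp_E {U : Submodule F (ι → F)} {e p : ι → F} (he : e ∈ U) (hp : p ∈ U)
    {E : Cfsg.isometryGroup F (⇑Q)} (h : IsE e p E) : Supp U E := fun z => by
  have h1 : act E z - z = polar Q e z • p - polar Q p z • e - (Q p * polar Q e z) • e := by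
    rw [h z]; abel
  rw [h1]
  exact U.sub_mem (U.sub_mem (U.smul_mem _ hp) (U.smul_mem _ he)) (U.smul_mem _ he)

theorem supp_refl {U : Submodule F (ι → F)} {p : ι → F} (hp : p ∈ U) (h : Q p ≠ 0) :
    Supp U (reflIso Q p h) := fun z => by
  rw [act_refl, sub_sub_cancel_left]
  exact U.neg_mem (U.smul_mem _ hp)

/-- the support of an isometry is perpendicular to its fixed vectors: it is trivial on `Uᗮ` -/
theorem act_eq_of_supp {U : Submodule F (ι → F)} (hQ : (polarBilin Q).Nondegenerate)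
    {g : Cfsg.isometryGroup F (⇑Q)} (hg : Supp U g) {z : ι → F} (hz : ∀ u ∈ U, polar Q z u = 0) :
    act g z = z := by
  have h1 : z ∈ LinearMap.BilinForm.orthogonal (polarBilin Q) (resSp g) := by
    rw [LinearMap.BilinForm.mem_orthogonal_iff]
    rintro x ⟨y, rfl⟩
    change polar Q (act g y - y) z = 0
    rw [polar_comm]
    exact hz _ (hg y)
  rw [orthogonal_resSp Q hQ] at h1
  exact h1

/-- The vectors used to build unipotent elements. -/
structure Conf (Q : QuadraticForm F (ι → F)) (U : Submodule F (ι → F)) (e f p p' : ι → F) : Prop where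
  he : e ∈ U
  hf : f ∈ U
  hp : p ∈ U
  hp' : p' ∈ U
  qe : Q e = 0
  ef : polar Q e f = 1
  ep : polar Q e p = 0
  fp : polar Q f p = 0
  ep' : polar Q e p' = 0
  fp' : polar Q f p' = 0
  qp' : Q p' ≠ 0
  pp' : polar Q p p' ≠ 0

/-- restricted non-degeneracy -/
def Nd (Q : QuadraticForm F (ι → F)) (U : Submodule F (ι → F)) : Prop :=
  ∀ x ∈ U, (∀ y ∈ U, polar Q x y = 0) → x = 0

section two

variable (h2 : (2 : F) = 0)
include h2

theorem add_self_vec (x : ι → F) : x + x = 0 := by
  rw [← two_smul F x, h2, zero_smul]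

theorem add_self_scal (x : F) : x + x = 0 := by
  rw [← two_mul, h2, zero_mul]

theorem neg_vec (x : ι → F) : -x = x := neg_eq_of_add_eq_zero_left (add_self_vec h2 x)

theorem sub_vec (x y : ι → F) : x - y = x + y := by rw [sub_eq_add_neg, neg_vec h2]

/-- an element of order four -/
theorem exists_four {U : Submodule F (ι → F)} {e f p p' : ι → F} (c : Conf Q U e f p p') :
    ∃ w : Cfsg.isometryGroup F (⇑Q), Supp U w ∧ w ^ 4 = 1 ∧ w ^ 2 ≠ 1 ∧
      (∃ b : F, b ≠ 0 ∧ f + act w f + act (w ^ 2) f + act (w ^ 3) f = b • e) ∧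
      (∀ z, polar Q e z = 0 → polar Q f z = 0 → polar Q p z = 0 → polar Q p' z = 0 → act w z = z) ∧
      act w e = e := by
  obtain ⟨E, hE⟩ := exists_E e p c.qe c.ep
  set r := reflIso Q p' c.qp' with hr
  have hee : polar Q e e = 0 := by rw [polar_self, c.qe]; simp
  have hp'p' : polar Q p' p' = 0 := by rw [polar_self]; simp [h2]
  have re : act r e = e := act_refl_of_polar Q _ _ _ (by rw [polar_comm]; exact c.ep')
  have rp' : act r p' = p' := by
    rw [hr, act_refl, hp'p']; simp
  set k : F := (Q p')⁻¹ * polar Q p' p with hk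
  have hk0 : k ≠ 0 := mul_ne_zero (inv_ne_zero c.qp') (by rw [polar_comm]; exact c.pp')
  have rp : act r p = p + k • p' := by rw [hr, act_refl, sub_vec h2]
  have rr : r * r = 1 := reflIso_mul_self _ _ _
  have rf : act r f = f := act_refl_of_polar Q _ _ _ (by rw [polar_comm]; exact c.fp')
  -- `w = r E`
  have hsq : IsE e (k • p') ((r * E) ^ 2) := by
    have h1 : IsE (act r e) (act r p) (r * E * r⁻¹) := isE_conj hE r
    rw [re, rp] at h1
    have h3 := isE_mul c.qe (by rw [polar_add_right, polar_smul_right, c.ep, c.ep']; simp) c.ep h1 hE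
    have h4 : p + k • p' + p = k • p' := by
      rw [add_comm, ← add_assoc, add_self_vec h2, zero_add]
    rw [h4] at h3
    have h5 : (r * E) ^ 2 = r * E * r⁻¹ * E := by
      rw [pow_two, hr, reflIso_inv]
      group
    rw [h5]; exact h3
  have hek : polar Q e (k • p') = 0 := by rw [polar_smul_right, c.ep']; simp
  have h4 : (r * E) ^ 4 = 1 := by
    have h1 := isE_mul c.qe hek hek hsq hsq
    rw [add_self_vec h2, ← pow_add] at h1
    exact isE_zero_iff h1
  have w2f : act ((r * E) ^ 2) f = f + k • p' + (Q (k • p')) • e := by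
    rw [hsq f, c.ef, polar_smul_left, polar_comm (⇑Q) p' f, c.fp', one_smul, sub_vec h2, sub_vec h2]
    simp
  have we : act (r * E) e = e := by
    rw [act_mul, hE e, hee, polar_comm (⇑Q) p e, c.ep]
    simp [re]
  have wp' : act (r * E) p' = p' + polar Q p p' • e := by
    rw [act_mul, hE p', c.ep', sub_vec h2, sub_vec h2]
    simp [act_add, act_smul, re, rp']
  have hsum : f + act (r * E) f + act ((r * E) ^ 2) f + act ((r * E) ^ 3) f = (k * polar Q p p') • e := by
    have h1 : act ((r * E) ^ 3) f = act (r * E) (act ((r * E) ^ 2) f) := by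
      rw [← act_mul, ← pow_succ']
    rw [h1, w2f, act_add, act_add, act_smul, act_smul, we, wp']
    have h3 : f + act (r * E) f + (f + k • p' + Q (k • p') • e) +
        (act (r * E) f + k • (p' + polar Q p p' • e) + Q (k • p') • e)
        = (f + f) + (act (r * E) f + act (r * E) f) + (k • p' + k • p') + (Q (k • p') • e + Q (k • p') • e)
          + (k * polar Q p p') • e := by
      module
    rw [h3, add_self_vec h2 f, add_self_vec h2 (act (r * E) f), add_self_vec h2 (k • p'),
      add_self_vec h2 (Q (k • p') • e)]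
    simp
  refine ⟨r * E, supp_mul (supp_refl c.hp' _) (supp_E c.he c.hp hE), h4, ?_,
    ⟨_, mul_ne_zero hk0 c.pp', hsum⟩, ?_, we⟩
  · intro h
    rw [h, act_one] at w2f
    have h6 : k • p' + Q (k • p') • e = 0 := by
      have h7 : f + (k • p' + Q (k • p') • e) = f := by rw [← add_assoc]; exact w2f.symm
      simpa using h7
    have h8 : polar Q p (k • p' + Q (k • p') • e) = 0 := by rw [h6, polar_zero_right]
    rw [polar_add_right, polar_smul_right, polar_smul_right, polar_comm (⇑Q) p e, c.ep] at h8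
    simp only [smul_eq_mul, mul_zero, add_zero] at h8
    exact mul_ne_zero hk0 c.pp' h8
  · intro z h1 _ h3 h4
    rw [act_mul, hE z, h1, h3]
    simp only [zero_smul, mul_zero, add_zero, sub_zero]
    exact act_refl_of_polar Q _ _ _ h4

/-! ### Existence of the vectors -/

/-- the vectors of `U` perpendicular to `e` and `f` -/
def perp2 (Q : QuadraticForm F (ι → F)) (U : Submodule F (ι → F)) (e f : ι → F) :
    Submodule F (ι → F) where
  carrier := {z | z ∈ U ∧ polar Q e z = 0 ∧ polar Q f z = 0}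
  add_mem' {x y} hx hy := ⟨U.add_mem hx.1 hy.1, by rw [polar_add_right, hx.2.1, hy.2.1, add_zero],
    by rw [polar_add_right, hx.2.2, hy.2.2, add_zero]⟩
  zero_mem' := ⟨U.zero_mem, polar_zero_right _ _, polar_zero_right _ _⟩
  smul_mem' c x hx := ⟨U.smul_mem _ hx.1, by rw [polar_smul_right, hx.2.1, smul_zero],
    by rw [polar_smul_right, hx.2.2, smul_zero]⟩

omit h2 in
theorem mem_perp2 {Q : QuadraticForm F (ι → F)} {U : Submodule F (ι → F)} {e f z : ι → F} :
    z ∈ perp2 Q U e f ↔ z ∈ U ∧ polar Q e z = 0 ∧ polar Q f z = 0 := Iff.rfl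

omit h2 in
theorem finrank_perp2 (Q : QuadraticForm F (ι → F)) (U : Submodule F (ι → F)) (e f : ι → F) :
    Module.finrank F U ≤ Module.finrank F (perp2 Q U e f) + 2 := by
  let φ : U →ₗ[F] F × F :=
    ((polarBilin Q e).comp U.subtype).prod ((polarBilin Q f).comp U.subtype)
  have h1 := LinearMap.finrank_range_add_finrank_ker φ
  have h3 : Module.finrank F (LinearMap.range φ) ≤ 2 := by
    refine (Submodule.finrank_le _).trans ?_
    rw [Module.finrank_prod, Module.finrank_self]
  have h4 : Module.finrank F (LinearMap.ker φ) = Module.finrank F (perp2 Q U e f) := by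
    have h5 : (LinearMap.ker φ).map U.subtype = perp2 Q U e f := by
      ext z
      rw [Submodule.mem_map, mem_perp2]
      constructor
      · rintro ⟨⟨y, hy⟩, hy', rfl⟩
        rw [LinearMap.mem_ker] at hy'
        exact ⟨hy, congrArg Prod.fst hy', congrArg Prod.snd hy'⟩
      · rintro ⟨h6, h7, h8⟩
        exact ⟨⟨z, h6⟩, by rw [LinearMap.mem_ker]; exact Prod.ext h7 h8, rfl⟩
    rw [← h5]
    exact (Submodule.finrank_map_subtype_eq U (LinearMap.ker φ)).symm
  omega

theorem nd_perp2 {U : Submodule F (ι → F)} (hU : Nd Q U) {e f : ι → F} (he : e ∈ U) (hf : f ∈ U)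
    (ef : polar Q e f = 1) : Nd Q (perp2 Q U e f) := by
  intro x hx h
  refine hU x hx.1 fun y hy => ?_
  have hee : polar Q e e = 0 := by rw [polar_self]; simp [h2]
  have hff : polar Q f f = 0 := by rw [polar_self]; simp [h2]
  have hfe : polar Q f e = 1 := by rw [polar_comm]; exact ef
  have h3 := h (y - polar Q e y • f - polar Q f y • e) ⟨?_, ?_, ?_⟩
  · rw [polar_sub_right, polar_sub_right, polar_smul_right, polar_smul_right,
      polar_comm (⇑Q) x f, polar_comm (⇑Q) x e, hx.2.1, hx.2.2] at h3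
    simpa using h3
  · exact U.sub_mem (U.sub_mem hy (U.smul_mem _ hf)) (U.smul_mem _ he)
  · rw [polar_sub_right, polar_sub_right, polar_smul_right, polar_smul_right, ef, hee]
    simp
  · rw [polar_sub_right, polar_sub_right, polar_smul_right, polar_smul_right, hff, hfe]
    simp

/-- a non-singular vector and a vector not perpendicular to it -/
theorem exists_nonsing {U : Submodule F (ι → F)} (hU : Nd Q U) (h1 : U ≠ ⊥) :
    ∃ p ∈ U, ∃ p' ∈ U, Q p' ≠ 0 ∧ polar Q p p' ≠ 0 := by
  obtain ⟨x, hx, hx0⟩ := (Submodule.ne_bot_iff U).1 h1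
  obtain ⟨y, hy, hxy⟩ : ∃ y ∈ U, polar Q x y ≠ 0 := by
    by_contra h
    push Not at h
    exact hx0 (hU x hx h)
  by_cases h3 : Q x = 0
  · by_cases h4 : Q y = 0
    · refine ⟨y, hy, x + y, U.add_mem hx hy, ?_, ?_⟩
      · rw [map_add' Q, h3, h4]; simpa using hxy
      · rw [polar_add_right, polar_self, h4, polar_comm]; simpa using hxy
    · exact ⟨x, hx, y, hy, h4, hxy⟩
  · exact ⟨y, hy, x, hx, h3, by rw [polar_comm]; exact hxy⟩

/-- a singular vector in a space of dimension at least three -/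
theorem exists_sing [Finite F] {U : Submodule F (ι → F)} (h3 : 3 ≤ Module.finrank F U) :
    ∃ e ∈ U, e ≠ 0 ∧ Q e = 0 := by
  have h1 : U ≠ ⊥ := by
    rintro rfl
    rw [finrank_bot] at h3
    omega
  obtain ⟨x, hx, hx0⟩ := (Submodule.ne_bot_iff U).1 h1
  by_cases hQx : Q x = 0
  · exact ⟨x, hx, hx0, hQx⟩
  have h4 := finrank_perp2 Q U x 0
  -- only one condition
  have h5 : ∃ y ∈ U, polar Q x y = 0 ∧ y ∉ Submodule.span F {x} := by
    by_contra h
    push Not at h
    let φ : U →ₗ[F] F := (polarBilin Q x).comp U.subtype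
    have h6 := LinearMap.finrank_range_add_finrank_ker φ
    have h7 : Module.finrank F (LinearMap.range φ) ≤ 1 := by
      refine (Submodule.finrank_le _).trans ?_
      rw [Module.finrank_self]
    have h8 : Module.finrank F (LinearMap.ker φ) ≤ 1 := by
      have h9 : (LinearMap.ker φ).map U.subtype ≤ Submodule.span F {x} := by
        rintro z ⟨⟨y, hy⟩, hy', rfl⟩
        exact h y hy hy'
      have h10 := Submodule.finrank_mono h9
      rw [Submodule.finrank_map_subtype_eq] at h10
      exact h10.trans (finrank_span_singleton hx0).le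
    omega
  obtain ⟨y, hy, hxy, hyx⟩ := h5
  obtain ⟨c, hc⟩ := exists_sq_of_two h2 (Q y * (Q x)⁻¹)
  refine ⟨y + c • x, U.add_mem hy (U.smul_mem _ hx), ?_, ?_⟩
  · intro h
    apply hyx
    rw [Submodule.mem_span_singleton]
    refine ⟨-c, ?_⟩
    rw [neg_smul]
    exact (eq_neg_of_add_eq_zero_left h).symm
  · rw [map_add' Q, QuadraticMap.map_smul, polar_smul_right, polar_comm (⇑Q) y x, hxy, hc]
    simp only [smul_eq_mul, mul_zero, add_zero]
    rw [mul_assoc, inv_mul_cancel₀ hQx, mul_one, add_self_scal h2]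

/-- a hyperbolic pair in a space of dimension at least three -/
theorem exists_pair [Finite F] {U : Submodule F (ι → F)} (hU : Nd Q U)
    (h3 : 3 ≤ Module.finrank F U) :
    ∃ e ∈ U, ∃ f ∈ U, Q e = 0 ∧ polar Q e f = 1 := by
  obtain ⟨e, he, he0, hQe⟩ := exists_sing (Q := Q) h2 h3
  obtain ⟨y, hy, hxy⟩ : ∃ y ∈ U, polar Q e y ≠ 0 := by
    by_contra h
    push Not at h
    exact he0 (hU e he h)
  refine ⟨e, he, (polar Q e y)⁻¹ • y, U.smul_mem _ hy, hQe, ?_⟩
  rw [polar_smul_right, smul_eq_mul, inv_mul_cancel₀ hxy]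

theorem exists_conf [Finite F] {U : Submodule F (ι → F)} (hU : Nd Q U)
    (h3 : 3 ≤ Module.finrank F U) : ∃ e f p p', Conf Q U e f p p' := by
  obtain ⟨e, he, f, hf, hQe, hef⟩ := exists_pair h2 hU h3
  have h4 : perp2 Q U e f ≠ ⊥ := by
    intro h
    have h5 := finrank_perp2 Q U e f
    rw [h, finrank_bot] at h5
    omega
  obtain ⟨p, hp, p', hp', hQp', hpp'⟩ := exists_nonsing h2 (nd_perp2 h2 hU he hf hef) h4
  exact ⟨e, f, p, p', he, hf, hp.1, hp'.1, hQe, hef, hp.2.1, hp.2.2, hp'.2.1, hp'.2.2, hQp', hpp'⟩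

/-! ### The unipotent elements -/

/-- an isometry of order two -/
theorem exists_ord_two {U : Submodule F (ι → F)} (hU : Nd Q U) (h1 : U ≠ ⊥) :
    ∃ w : Cfsg.isometryGroup F (⇑Q), Supp U w ∧ w ^ 2 = 1 ∧ w ≠ 1 := by
  obtain ⟨p, hp, p', hp', hQ, hpp⟩ := exists_nonsing h2 hU h1
  refine ⟨reflIso Q p' hQ, supp_refl hp' hQ, by rw [pow_two]; exact reflIso_mul_self _ _ _, ?_⟩
  intro h
  have h3 := act_refl Q p' hQ p
  rw [h, act_one] at h3
  have h4 : ((Q p')⁻¹ * polar Q p' p) • p' = 0 := by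
    have := sub_eq_self.1 h3.symm
    exact this
  rcases smul_eq_zero.1 h4 with h5 | h5
  · rcases mul_eq_zero.1 h5 with h6 | h6
    · exact hQ (inv_eq_zero.1 h6)
    · exact hpp (by rw [polar_comm]; exact h6)
  · apply hQ
    rw [h5]
    exact QuadraticMap.map_zero Q

/-- an isometry of order four -/
theorem exists_ord_four [Finite F] {U : Submodule F (ι → F)} (hU : Nd Q U)
    (h3 : 3 ≤ Module.finrank F U) :
    ∃ w : Cfsg.isometryGroup F (⇑Q), Supp U w ∧ w ^ 4 = 1 ∧ w ^ 2 ≠ 1 := by
  obtain ⟨e, f, p, p', c⟩ := exists_conf h2 hU h3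
  obtain ⟨w, h4, h5, h6, -, -⟩ := exists_four h2 c
  exact ⟨w, h4, h5, h6⟩

omit h2 in
theorem supp_mono {U U' : Submodule F (ι → F)} (h : U ≤ U') {g : Cfsg.isometryGroup F (⇑Q)}
    (hg : Supp U g) : Supp U' g := fun z => h (hg z)

omit h2 in
theorem perp2_le {U : Submodule F (ι → F)} {e f : ι → F} : perp2 Q U e f ≤ U := fun _ h => h.1

/-- an isometry of order eight -/
theorem exists_ord_eight [Finite F] {U : Submodule F (ι → F)} (hU : Nd Q U)
    (h5 : 5 ≤ Module.finrank F U) :
    ∃ w : Cfsg.isometryGroup F (⇑Q), Supp U w ∧ w ^ 8 = 1 ∧ w ^ 4 ≠ 1 := by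
  obtain ⟨e2, he2, f2, hf2, hQe2, hef2⟩ := exists_pair (Q := Q) h2 hU (by omega)
  have h6 := finrank_perp2 Q U e2 f2
  obtain ⟨e, f, p, p', c⟩ := exists_conf h2 (nd_perp2 h2 hU he2 hf2 hef2) (by omega)
  obtain ⟨w, hs, h4, h2', ⟨b, hb, hsum⟩, hfix, hwe⟩ := exists_four h2 c
  -- `w` fixes `e2`
  have hwe2 : act w e2 = e2 := by
    apply hfix
    · rw [polar_comm]; exact c.he.2.1
    · rw [polar_comm]; exact c.hf.2.1
    · rw [polar_comm]; exact c.hp.2.1
    · rw [polar_comm]; exact c.hp'.2.1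
  have hef : polar Q e2 f = 0 := c.hf.2.1
  obtain ⟨E, hE⟩ := exists_E e2 f hQe2 hef
  have hpow : ∀ n : ℕ, act (w ^ n) e2 = e2 := by
    intro n
    induction n with
    | zero => rw [pow_zero, act_one]
    | succ n ih => rw [pow_succ, act_mul, hwe2, ih]
  have hpol : ∀ n : ℕ, polar Q e2 (act (w ^ n) f) = 0 := by
    intro n
    have h7 := polar_act (w ^ n) e2 f
    rw [hpow n] at h7
    rw [h7]; exact hef
  have hc : ∀ n : ℕ, IsE e2 (act (w ^ n) f) (w ^ n * E * (w ^ n)⁻¹) := by
    intro n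
    have h7 := isE_conj hE (w ^ n)
    rw [hpow n] at h7
    exact h7
  have hprod : IsE e2 (act (w ^ 1) f + (act (w ^ 2) f + (act (w ^ 3) f + f))) ((w * E) ^ 4) := by
    have h7 := isE_mul hQe2 (hpol 3) hef (hc 3) hE
    have h8 := isE_mul hQe2 (hpol 2) (by rw [polar_add_right, hpol 3, hef, add_zero]) (hc 2) h7
    have h9 := isE_mul hQe2 (hpol 1) (by
      rw [polar_add_right, polar_add_right, hpol 2, hpol 3, hef, add_zero, add_zero]) (hc 1) h8
    have h10 : (w * E) ^ 4 = w ^ 1 * E * (w ^ 1)⁻¹ * (w ^ 2 * E * (w ^ 2)⁻¹ * (w ^ 3 * E * (w ^ 3)⁻¹ * E)) := by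
      have h11 : w ^ 3 = w⁻¹ := by
        rw [eq_inv_iff_mul_eq_one, ← pow_succ]; exact h4
      have h12 : (w * E) ^ 4 = w * E * (w * E) * (w * E) * (w * E) := by
        rw [pow_succ, pow_succ, pow_succ, pow_one]
      rw [h12, h11]
      have h13 : w * E * (w * E) * (w * E) * (w * E) = w ^ 1 * E * (w ^ 1)⁻¹ * (w ^ 2 * E * (w ^ 2)⁻¹ *
          (w ^ 3 * E * w * E)) := by group
      rw [h13, h11, inv_inv]
    rw [h10]; exact h9
  have hsum' : act (w ^ 1) f + (act (w ^ 2) f + (act (w ^ 3) f + f)) = b • e := by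
    rw [← hsum, pow_one]; abel
  rw [hsum'] at hprod
  have hee : polar Q e2 (b • e) = 0 := by
    rw [polar_smul_right, c.he.2.1, smul_zero]
  refine ⟨w * E, supp_mul (supp_mono perp2_le hs) (supp_E he2 c.hf.1 hE), ?_, ?_⟩
  · have h7 := isE_mul hQe2 hee hee hprod hprod
    rw [add_self_vec h2, ← pow_add] at h7
    exact isE_zero_iff h7
  · intro h
    rw [h] at hprod
    have h7 := hprod f2
    have h8 : polar Q e f2 = 0 := by rw [polar_comm]; exact c.he.2.2
    rw [act_one, hef2, polar_smul_left, h8, QuadraticMap.map_smul, c.qe, one_smul] at h7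
    have h9 : b • e = 0 := by
      have h10 : f2 = f2 + b • e := by
        refine h7.trans ?_
        simp
      exact (add_eq_left.1 h10.symm)
    rcases smul_eq_zero.1 h9 with h10 | h10
    · exact hb h10
    · have h11 := c.ef
      rw [h10, polar_zero_left] at h11
      exact zero_ne_one h11

/-- an involution in the kernel of the Dickson invariant -/
theorem exists_even_two [Finite F] (hQ : (polarBilin Q).Nondegenerate)
    {U : Submodule F (ι → F)} (hU : Nd Q U)
    (h3 : 3 ≤ Module.finrank F U) :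
    ∃ w : Cfsg.isometryGroup F (⇑Q), Supp U w ∧ dsign Q w = 1 ∧ w ^ 2 = 1 ∧
      ∃ v ∈ U, v + act w v ≠ 0 := by
  obtain ⟨e, f, p, p', c⟩ := exists_conf h2 hU h3
  obtain ⟨h, hhU, hh, hhp⟩ : ∃ h ∈ U, Q h ≠ 0 ∧ polar Q h p' = 0 ∧ polar Q h p = 0 := by
    by_cases hf : Q f = 0
    · refine ⟨e + f, U.add_mem c.he c.hf, ?_, ?_, ?_⟩
      · rw [map_add' Q, c.qe, hf, c.ef]; simp
      · rw [polar_add_left, c.ep', c.fp', add_zero]
      · rw [polar_add_left, c.ep, c.fp, add_zero]
    · exact ⟨f, c.hf, hf, c.fp', c.fp⟩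
  refine ⟨reflIso Q h hh * reflIso Q p' c.qp', supp_mul (supp_refl hhU _) (supp_refl c.hp' _), ?_, ?_,
    p, c.hp, ?_⟩
  · rw [dsign_refl_mul Q hQ, dsign_refl Q hQ, neg_neg]
  · have h4 : reflIso Q h hh * reflIso Q p' c.qp' = reflIso Q p' c.qp' * reflIso Q h hh := by
      apply act_ext
      intro z
      rw [act_mul, act_mul, act_refl, act_refl, act_refl, act_refl, polar_sub_right, polar_sub_right,
        polar_smul_right, polar_smul_right, hhp.1, polar_comm (⇑Q) p' h, hhp.1]
      simp only [smul_zero, sub_zero]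
      abel
    rw [pow_two]
    calc reflIso Q h hh * reflIso Q p' c.qp' * (reflIso Q h hh * reflIso Q p' c.qp')
        = reflIso Q h hh * (reflIso Q p' c.qp' * reflIso Q h hh) * reflIso Q p' c.qp' := by group
      _ = (reflIso Q h hh * reflIso Q h hh) * (reflIso Q p' c.qp' * reflIso Q p' c.qp') := by
        rw [← h4]; group
      _ = 1 := by rw [reflIso_mul_self, reflIso_mul_self, one_mul]
  · rw [act_mul, act_refl, act_refl, polar_sub_right, polar_smul_right, hhp.1, hhp.2]
    simp only [smul_zero, sub_zero, mul_zero, zero_smul]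
    rw [← sub_vec h2, sub_sub_cancel]
    intro h5
    rcases smul_eq_zero.1 h5 with h6 | h6
    · rcases mul_eq_zero.1 h6 with h7 | h7
      · exact c.qp' (inv_eq_zero.1 h7)
      · exact c.pp' (by rw [polar_comm]; exact h7)
    · apply c.qp'
      rw [h6]
      exact QuadraticMap.map_zero Q

/-- an element of order four in the kernel of the Dickson invariant, of maximal nilpotency index -/
theorem exists_even_four [Finite F] (hQ : (polarBilin Q).Nondegenerate)
    {U : Submodule F (ι → F)} (hU : Nd Q U)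
    (h5 : 5 ≤ Module.finrank F U) :
    ∃ w : Cfsg.isometryGroup F (⇑Q), Supp U w ∧ dsign Q w = 1 ∧ w ^ 4 = 1 ∧
      ∃ v ∈ U, v + act w v + act (w ^ 2) v + act (w ^ 3) v ≠ 0 := by
  obtain ⟨e2, he2, f2, hf2, hQe2, hef2⟩ := exists_pair (Q := Q) h2 hU (by omega)
  have h6 := finrank_perp2 Q U e2 f2
  obtain ⟨e, f, p, p', c⟩ := exists_conf h2 (nd_perp2 h2 hU he2 hf2 hef2) (by omega)
  obtain ⟨w, hs, h4, h2', ⟨b, hb, hsum⟩, hfix, hwe⟩ := exists_four h2 c
  have hbe : b • e ≠ 0 := by
    intro h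
    rcases smul_eq_zero.1 h with h10 | h10
    · exact hb h10
    · have h11 := c.ef
      rw [h10, polar_zero_left] at h11
      exact zero_ne_one h11
  rcases Int.units_eq_one_or (dsign Q w) with hd | hd
  · exact ⟨w, supp_mono perp2_le hs, hd, h4, f, c.hf.1, by rw [hsum]; exact hbe⟩
  obtain ⟨h, hhU, hh, hhz⟩ : ∃ h ∈ U, Q h ≠ 0 ∧ ∀ z, polar Q e2 z = 0 → polar Q f2 z = 0 →
      polar Q h z = 0 := by
    by_cases hf : Q f2 = 0
    · refine ⟨e2 + f2, U.add_mem he2 hf2, ?_, fun z hz1 hz2 => ?_⟩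
      · rw [map_add' Q, hQe2, hf, hef2]; simp
      · rw [polar_add_left, hz1, hz2, add_zero]
    · exact ⟨f2, hf2, hf, fun z _ hz => hz⟩
  have hwh : act w h = h := by
    apply hfix
    · rw [polar_comm]; exact hhz _ c.he.2.1 c.he.2.2
    · rw [polar_comm]; exact hhz _ c.hf.2.1 c.hf.2.2
    · rw [polar_comm]; exact hhz _ c.hp.2.1 c.hp.2.2
    · rw [polar_comm]; exact hhz _ c.hp'.2.1 c.hp'.2.2
  set r := reflIso Q h hh with hr
  have hcomm : w * r = r * w := by
    apply act_ext
    intro z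
    rw [act_mul, act_mul, hr, act_refl, act_refl, act_sub, act_smul, hwh]
    have h7 := polar_act w h z
    rw [hwh] at h7
    rw [h7]
  have hC : Commute w r := hcomm
  have hrr : r ^ 2 = 1 := by rw [pow_two]; exact reflIso_mul_self _ _ _
  have hrf : act r f = f := act_refl_of_polar Q _ _ _ (hhz _ c.hf.2.1 c.hf.2.2)
  have hrn : ∀ n : ℕ, act (r ^ n) f = f := by
    intro n
    induction n with
    | zero => rw [pow_zero, act_one]
    | succ n ih => rw [pow_succ, act_mul, hrf, ih]
  have hact : ∀ n : ℕ, act ((w * r) ^ n) f = act (w ^ n) f := by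
    intro n
    rw [hC.mul_pow, act_mul, hrn]
  refine ⟨w * r, supp_mul (supp_mono perp2_le hs) (supp_refl hhU _), ?_, ?_, f, c.hf.1, ?_⟩
  · rw [hcomm, dsign_refl_mul Q hQ, hd, neg_neg]
  · rw [hC.mul_pow, h4, one_mul]
    calc r ^ 4 = (r ^ 2) ^ 2 := by rw [← pow_mul]
      _ = 1 := by rw [hrr, one_pow]
  · have h7 : act (w * r) f = act w f := by
      have := hact 1
      rwa [pow_one, pow_one] at this
    rw [h7, hact, hact, hsum]
    exact hbe

end two

end Cfsg.Agent.H404.Siegel
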